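import Cfsg.Agent.H686.Spin.Struct

/-!
# S4578, task F4, part 3: the twisted symmetric group in `A_{n+2}`
-/

set_option autoImplicit false

namespace Cfsg.Agent.H686.Spin

open Finset Cfsg Cfsg.Agent.H614 Equiv Equiv.Perm
open Cfsg.Agent.Lib.AltCarmichael Cfsg.Agent.SporadicRecognition.AltCover

/-- the embedding of `Fin n` onto the last `n` points of `Fin (n + 2)` -/
def em (n : ℕ) : Fin n ≃ {x : Fin (n + 2) // 2 ≤ (x : ℕ)} where
  toFun i := ⟨⟨i + 2, by omega⟩, by simp⟩
  invFun x := ⟨(x : Fin (n + 2)) - 2, by have := x.1.2; have := x.2; omega⟩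
  left_inv i := by ext; simp
  right_inv x := by
    have := x.2
    ext
    simp only
    omega

theorem em_val (n : ℕ) (i : Fin n) : ((em n i : Fin (n + 2)) : ℕ) = i + 2 := rfl

/-- the action on the first two points -/
def tw2 (n : ℕ) (u : ℤˣ) : Perm (Fin (n + 2)) := if u = 1 then 1 else swap 0 1

theorem tw2_one (n : ℕ) : tw2 n 1 = 1 := if_pos rfl

theorem tw2_neg (n : ℕ) : tw2 n (-1) = swap 0 1 := if_neg (by decide)

theorem tw2_mul (n : ℕ) (u v : ℤˣ) : tw2 n (u * v) = tw2 n u * tw2 n v := by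
  rcases Int.units_eq_one_or u with rfl | rfl <;> rcases Int.units_eq_one_or v with rfl | rfl
  · rw [mul_one, tw2_one, mul_one]
  · rw [one_mul, tw2_one, one_mul]
  · rw [mul_one, tw2_one, mul_one]
  · rw [neg_one_mul, neg_neg, tw2_one, tw2_neg, swap_mul_self]

theorem tw2_apply (n : ℕ) (u : ℤˣ) {x : Fin (n + 2)} (hx : 2 ≤ (x : ℕ)) : tw2 n u x = x := by
  rcases Int.units_eq_one_or u with rfl | rfl
  · rw [tw2_one, Perm.one_apply]
  · rw [tw2_neg, swap_apply_of_ne_of_ne]
    · rintro rfl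
      simp at hx
    · rintro rfl
      have : ((1 : Fin (n + 2)) : ℕ) = 1 := rfl
      omega

theorem tw2_lt (n : ℕ) (u : ℤˣ) {x : Fin (n + 2)} (hx : ¬ 2 ≤ (x : ℕ)) : ¬ 2 ≤ (tw2 n u x : ℕ) := by
  intro h
  have h1 := tw2_apply n u h
  have h2 := (tw2 n u).injective h1
  rw [h2] at h
  exact hx h

theorem sign_tw2 (n : ℕ) (u : ℤˣ) : sign (tw2 n u) = u := by
  rcases Int.units_eq_one_or u with rfl | rfl
  · rw [tw2_one, map_one]
  · rw [tw2_neg, sign_swap]
    intro h
    have := congrArg Fin.val h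
    simp at this

theorem disj (n : ℕ) (σ : Perm (Fin n)) (u : ℤˣ) : Perm.Disjoint (σ.extendDomain (em n)) (tw2 n u) := by
  intro x
  by_cases h : 2 ≤ (x : ℕ)
  · exact Or.inr (tw2_apply n u h)
  · exact Or.inl (extendDomain_apply_not_subtype _ _ h)

/-- the twisted embedding of `S_n` in `A_{n+2}` -/
def tw (n : ℕ) : Perm (Fin n) →* Perm (Fin (n + 2)) where
  toFun σ := σ.extendDomain (em n) * tw2 n (sign σ)
  map_one' := by rw [map_one, tw2_one, extendDomain_one, mul_one]
  map_mul' σ ρ := by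
    rw [map_mul, tw2_mul, ← extendDomain_mul]
    have := (disj n ρ (sign σ)).commute.eq
    rw [mul_assoc, mul_assoc, ← mul_assoc _ (tw2 n (sign σ)), this, mul_assoc]

theorem tw_def (n : ℕ) (σ : Perm (Fin n)) : tw n σ = σ.extendDomain (em n) * tw2 n (sign σ) := rfl

theorem sign_tw (n : ℕ) (σ : Perm (Fin n)) : sign (tw n σ) = 1 := by
  rw [tw_def, map_mul, sign_extendDomain, sign_tw2]
  exact Int.units_mul_self _

theorem tw_em (n : ℕ) (σ : Perm (Fin n)) (i : Fin n) :
    tw n σ (em n i : Fin (n + 2)) = (em n (σ i) : Fin (n + 2)) := by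
  rw [tw_def, Perm.mul_apply, tw2_apply _ _ (em n i).2, extendDomain_apply_image]

theorem tw_lt (n : ℕ) (σ : Perm (Fin n)) {x : Fin (n + 2)} (hx : ¬ 2 ≤ (x : ℕ)) :
    ¬ 2 ≤ (tw n σ x : ℕ) := by
  rw [tw_def, Perm.mul_apply, extendDomain_apply_not_subtype σ (em n) (tw2_lt n _ hx)]
  exact tw2_lt n _ hx

theorem tw_even (n : ℕ) {σ : Perm (Fin n)} (hσ : sign σ = 1) : tw n σ = σ.extendDomain (em n) := by
  rw [tw_def, hσ, tw2_one, mul_one]

theorem tw_fix (n : ℕ) {σ : Perm (Fin n)} (hσ : sign σ = 1) {x : Fin (n + 2)} (hx : ¬ 2 ≤ (x : ℕ)) :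
    tw n σ x = x := by
  rw [tw_even n hσ, extendDomain_apply_not_subtype σ (em n) hx]

theorem tw_injective (n : ℕ) : Function.Injective (tw n) := by
  intro σ ρ h
  ext i
  have h1 := tw_em n σ i
  rw [h, tw_em] at h1
  have h2 := (em n).injective (Subtype.ext h1)
  rw [h2]

/-- the twisted embedding as a homomorphism to the alternating group -/
def twA (n : ℕ) : Perm (Fin n) →* alternatingGroup (Fin (n + 2)) :=
  (tw n).codRestrict (alternatingGroup (Fin (n + 2))) fun σ => mem_alternatingGroup.2 (sign_tw n σ)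

theorem coe_twA (n : ℕ) (σ : Perm (Fin n)) : (twA n σ : Perm (Fin (n + 2))) = tw n σ := rfl

theorem ty_tw_even (n : ℕ) {σ : Perm (Fin n)} (hσ : sign σ = 1) : ty (tw n σ) = ty σ + {1, 1} := by
  rw [ty_eq, ty_eq, tw_even n hσ, cycleType_extendDomain, Fintype.card_fin, Fintype.card_fin]
  have h1 : σ.cycleType.sum ≤ n := by
    rw [sum_cycleType]
    exact (Finset.card_le_univ _).trans_eq (Fintype.card_fin n)
  have h2 : n + 2 - σ.cycleType.sum = n - σ.cycleType.sum + 2 := by omega
  rw [h2, Multiset.replicate_add, add_assoc]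
  rfl

theorem ty_tw_odd (n : ℕ) {σ : Perm (Fin n)} (hσ : sign σ = -1) : 2 ∈ ty (tw n σ) := by
  have h0 : (tw n σ).cycleType = σ.cycleType + {2} := by
    rw [tw_def, (disj n σ _).cycleType_mul, cycleType_extendDomain, hσ, tw2_neg]
    congr 1
    rw [← isSwap_iff_cycleType]
    refine ⟨0, 1, ?_, rfl⟩
    intro h
    have := congrArg Fin.val h
    simp at this
  rw [ty_eq, h0]
  simp

theorem sign_of_odd {n : ℕ} {σ : Perm (Fin n)} (h : ∀ i ∈ ty σ, Odd i) : sign σ = 1 := by
  rw [sign_of_cycleType']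
  refine Multiset.prod_eq_one fun u hu => ?_
  obtain ⟨i, hi, rfl⟩ := Multiset.mem_map.1 hu
  have : Odd i := h i (by rw [ty_eq]; exact Multiset.mem_add.2 (Or.inl hi))
  rw [this.neg_one_pow, neg_neg]

theorem odd_tw_iff (n : ℕ) (σ : Perm (Fin n)) : (∀ i ∈ ty (tw n σ), Odd i) ↔ ∀ i ∈ ty σ, Odd i := by
  rcases Int.units_eq_one_or (sign σ) with h | h
  · rw [ty_tw_even n h]
    constructor
    · intro h1 i hi
      exact h1 i (Multiset.mem_add.2 (Or.inl hi))
    · intro h1 i hi
      rcases Multiset.mem_add.1 hi with h2 | h2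
      · exact h1 i h2
      · have : i = 1 := by simpa using h2
        rw [this]
        exact odd_one
  · constructor
    · intro h1
      have := h1 2 (ty_tw_odd n h)
      exact absurd this (by decide)
    · intro h1
      rw [sign_of_odd h1] at h
      exact absurd h (by decide)

theorem extendDomain_swap' {α β : Type*} [DecidableEq α] [DecidableEq β] {p : β → Prop} [DecidablePred p]
    (e : α ≃ Subtype p) (i j : α) : (swap i j).extendDomain e = swap (e i : β) (e j : β) := by
  ext x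
  by_cases hx : p x
  · obtain ⟨y, hy⟩ := e.surjective ⟨x, hx⟩
    have hy' : (e y : β) = x := congrArg Subtype.val hy
    rw [← hy', extendDomain_apply_image]
    by_cases h1 : y = i
    · rw [h1, swap_apply_left, swap_apply_left]
    · by_cases h2 : y = j
      · rw [h2, swap_apply_right, swap_apply_right]
      · rw [swap_apply_of_ne_of_ne h1 h2, swap_apply_of_ne_of_ne]
        · exact fun h => h1 (e.injective (Subtype.ext h))
        · exact fun h => h2 (e.injective (Subtype.ext h))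
  · rw [extendDomain_apply_not_subtype _ _ hx, swap_apply_of_ne_of_ne]
    · rintro rfl
      exact hx (e i).2
    · rintro rfl
      exact hx (e j).2

theorem twA_cy {m : ℕ} {i : ℕ} (hi : i < m) :
    twA (m + 2) (cy m i hi : Perm (Fin (m + 2))) = cy (m + 2) (i + 2) (by omega) := by
  refine Subtype.ext ?_
  rw [coe_twA, tw_even _ (mem_alternatingGroup.1 (cy m i hi).2)]
  change (cyc m i).extendDomain (em (m + 2)) = cyc (m + 2) (i + 2)
  rw [cyc_def, cyc_def, ← extendDomain_mul, extendDomain_swap', extendDomain_swap']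
  have e : ∀ j < m + 2, (em (m + 2) (Fin.ofNat (m + 2) j) : Fin (m + 2 + 2)) = Fin.ofNat (m + 2 + 2) (j + 2) := by
    intro j hj
    ext
    rw [em_val]
    simp only [Fin.ofNat]
    rw [Nat.mod_eq_of_lt hj, Nat.mod_eq_of_lt (by omega)]
  rw [e i (by omega), e m (by omega), e (m + 1) (by omega)]

end Cfsg.Agent.H686.Spin
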