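import Cfsg.Agent.H686.Spin.Big
import Cfsg.Agent.H686.Spin.Twist
import Cfsg.Agent.H96.Spin.TraceSq

/-!
# S4578, tasks F3 and F4: the spin data of a double cover of `A_n`
-/

set_option autoImplicit false

namespace Cfsg.Agent.H686.Spin

open Finset Cfsg Cfsg.Agent.H614 Equiv Equiv.Perm
open Cfsg.Agent.Lib.AltCarmichael Cfsg.Agent.SporadicRecognition.AltCover

/-- **F3** for the structure `SpinRep`. -/
theorem trace_sq {N : ℕ} {G : Type*} [Group G] [Finite G] {π : G →* alternatingGroup (Fin N)} {z : G}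
    {ι : Type} [Fintype ι] [DecidableEq ι] {γ : Fin N → Matrix ι ι ℂ} {f : G →* (Matrix ι ι ℂ)ˣ}
    (h : SpinRep π z γ f) (g : G) :
    ((∀ i ∈ ty (π g : Equiv.Perm (Fin N)), Odd i) →
      Matrix.trace (f g : Matrix ι ι ℂ) * (starRingEnd ℂ) (Matrix.trace (f g : Matrix ι ι ℂ)) *
        (if Even N then 1 else 2) = 2 ^ Multiset.card (ty (π g : Equiv.Perm (Fin N)))) ∧
    (¬ (∀ i ∈ ty (π g : Equiv.Perm (Fin N)), Odd i) → Matrix.trace (f g : Matrix ι ι ℂ) = 0) :=
  Cfsg.Agent.H96.Spin.trace_sq_of (π := fun g => (π g : Equiv.Perm (Fin N))) h.card h.sq h.anti h.equiv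
    h.scalar g

/-- extension of a colouring -/
def exc {n m : ℕ} {X : Type} (c : Fin n → Fin m) (r : Fin (n + 2) → X) (i : Fin (n + 2)) : Fin m ⊕ X :=
  if h : 2 ≤ (i : ℕ) then Sum.inl (c ((em n).symm ⟨i, h⟩)) else Sum.inr (r i)

theorem exc_em {n m : ℕ} {X : Type} (c : Fin n → Fin m) (r : Fin (n + 2) → X) (i : Fin n) :
    exc c r (em n i : Fin (n + 2)) = Sum.inl (c i) := by
  rw [exc, dif_pos (em n i).2]
  exact congrArg Sum.inl (congrArg c ((em n).symm_apply_apply i))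

theorem exc_lt {n m : ℕ} {X : Type} (c : Fin n → Fin m) (r : Fin (n + 2) → X) {i : Fin (n + 2)}
    (hi : ¬ 2 ≤ (i : ℕ)) : exc c r i = Sum.inr (r i) := dif_neg hi

theorem card_exc_inl {n m : ℕ} {X : Type} [DecidableEq X] (c : Fin n → Fin m) (r : Fin (n + 2) → X) (j : Fin m) :
    #{i | exc c r i = Sum.inl j} = #{i | c i = j} := by
  symm
  refine Finset.card_bij (fun i _ => (em n i : Fin (n + 2))) ?_ ?_ ?_
  · intro i hi
    rw [Finset.mem_filter] at hi ⊢
    exact ⟨Finset.mem_univ _, by rw [exc_em, hi.2]⟩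
  · intro i _ i' _ hii
    exact (em n).injective (Subtype.ext hii)
  · intro i hi
    rw [Finset.mem_filter] at hi
    by_cases h : 2 ≤ (i : ℕ)
    · obtain ⟨i', hi'⟩ := (em n).surjective ⟨i, h⟩
      have e : (em n i' : Fin (n + 2)) = i := congrArg Subtype.val hi'
      refine ⟨i', ?_, e⟩
      rw [Finset.mem_filter]
      refine ⟨Finset.mem_univ _, ?_⟩
      have h2 := hi.2
      rw [← e, exc_em] at h2
      exact Sum.inl_injective h2
    · have h2 := hi.2
      rw [exc_lt c r h] at h2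
      exact absurd h2 (by simp)

theorem card_exc_inr {n m : ℕ} {X : Type} [DecidableEq X] (c : Fin n → Fin m) (r : Fin (n + 2) → X) (x : X) :
    #{i | exc c r i = Sum.inr x} = #{i : Fin (n + 2) | ¬ 2 ≤ (i : ℕ) ∧ r i = x} := by
  congr 1
  ext i
  rw [Finset.mem_filter, Finset.mem_filter]
  by_cases h : 2 ≤ (i : ℕ)
  · rw [exc, dif_pos h]
    simp [h]
  · rw [exc_lt c r h]
    simp [h]

theorem divK {n : ℕ} {G : Type*} [Group G] {π₀ : G →* alternatingGroup (Fin (n + 2))} {z₀ : G}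
    (hc : IsCover π₀ z₀) {ι : Type} [Fintype ι] [DecidableEq ι] {γ : Fin (n + 2) → Matrix ι ι ℂ}
    {f : G →* (Matrix ι ι ℂ)ˣ} (h : SpinRep π₀ z₀ γ f)
    {K : Type*} [Group K] [Finite K] (φ : K →* G) (Q : K →* Perm (Fin n)) (hφ : ∀ x, π₀ (φ x) = twA n (Q x))
    {X : Type} [Fintype X] [DecidableEq X] (r : Fin (n + 2) → X) (hr : ∀ x, ∃ i : Fin (n + 2), ¬ 2 ≤ (i : ℕ) ∧ r i = x)
    (hrK : ∀ (x : K) (i : Fin (n + 2)), ¬ 2 ≤ (i : ℕ) → r (tw n (Q x) i) = r i)
    {m : ℕ} (a : Fin m → ℕ) (k : ℕ)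
    (hk : 2 * k ≤ #{j | a j ≠ 0} + Fintype.card X + if Even n then 1 else 0) :
    ∃ θ : K → ℂ, IsCharacter K θ ∧ ∀ x,
      Matrix.trace (f (φ x) : Matrix ι ι ℂ) * cnt (Q x) a = 2 ^ k * θ x := by
  classical
  let _ : MulAction K (FibSet (Fin n) a) := MulAction.compHom (FibSet (Fin n) a) Q
  have hsm : ∀ (x : K) (c : FibSet (Fin n) a), x • c = Q x • c := fun _ _ => rfl
  have hfix : ∀ x : K, Nat.card (MulAction.fixedBy (FibSet (Fin n) a) x) = cnt (Q x) a := by
    intro x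
    rw [← card_fixedBy_fib]
    rfl
  obtain ⟨s, hs1, hs2⟩ : ∃ s : Fin m ⊕ X → ℕ, (∀ j, s (Sum.inl j) = a j) ∧
      ∀ x, s (Sum.inr x) = #{i : Fin (n + 2) | ¬ 2 ≤ (i : ℕ) ∧ r i = x} :=
    ⟨Sum.elim a fun x => #{i : Fin (n + 2) | ¬ 2 ≤ (i : ℕ) ∧ r i = x}, fun _ => rfl, fun _ => rfl⟩
  have hcard : #{d | s d ≠ 0} = #{j | a j ≠ 0} + Fintype.card X := by
    rw [Finset.card_filter, Fintype.sum_sum_type, Finset.card_filter]
    congr 1
    · exact Finset.sum_congr rfl fun j _ => by rw [hs1]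
    · rw [Finset.sum_congr rfl fun x _ => (if_pos (c := s (Sum.inr x) ≠ 0) ?_ : (if s (Sum.inr x) ≠ 0 then 1 else 0) = 1)]
      · rw [Finset.sum_const, smul_eq_mul, mul_one, Finset.card_univ]
      · rw [hs2]
        obtain ⟨i, hi⟩ := hr x
        refine Finset.card_ne_zero_of_mem (a := i) ?_
        rw [Finset.mem_filter]
        exact ⟨Finset.mem_univ _, hi⟩
  have g1 : ∀ (c : FibSet (Fin n) a) (d : Fin m ⊕ X), #{i | exc c.1 r i = d} = s d := by
    rintro c (j | x)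
    · rw [card_exc_inl, hs1]
      exact c.2 j
    · rw [card_exc_inr, hs2]
  have g2 : ∀ (x : K) (c : FibSet (Fin n) a) (i : Fin (n + 2)),
      exc (x • c).1 r ((π₀ (φ x) : Perm (Fin (n + 2))) i) = exc c.1 r i := by
    intro x c i
    rw [hφ, coe_twA, hsm]
    by_cases hi : 2 ≤ (i : ℕ)
    · obtain ⟨i', hi'⟩ := (em n).surjective ⟨i, hi⟩
      have e : (em n i' : Fin (n + 2)) = i := congrArg Subtype.val hi'
      rw [← e, tw_em, exc_em, exc_em, smul_fib]
      exact congrArg Sum.inl (congrArg c.1 ((Q x).symm_apply_apply i'))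
    · rw [exc_lt _ _ hi, exc_lt _ _ (tw_lt n _ hi), hrK x i hi]
  have g3 : 2 * k ≤ #{d | s d ≠ 0} + if Even (n + 2) then 1 else 0 := by
    rw [hcard]
    refine hk.trans ?_
    have : Even (n + 2) ↔ Even n := by
      rw [Nat.even_add]; simp
    simp only [this]
    exact le_rfl
  obtain ⟨θ, h1, h2⟩ := exists_theta hc h φ (C := FibSet (Fin n) a) (fun c => exc c.1 r) s g1 g2 k g3
  refine ⟨θ, h1, fun x => ?_⟩
  rw [← h2, hfix]

section final

variable {n : ℕ} {G : Type} [Group G]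

/-- the twisted double cover of `S_n` -/
def TT (π₀ : G →* alternatingGroup (Fin (n + 2))) : Subgroup (G × Perm (Fin n)) :=
  (π₀.comp (MonoidHom.fst G (Perm (Fin n)))).eqLocus ((twA n).comp (MonoidHom.snd G (Perm (Fin n))))

theorem mem_TT {π₀ : G →* alternatingGroup (Fin (n + 2))} {x : G × Perm (Fin n)} :
    x ∈ TT π₀ ↔ π₀ x.1 = twA n x.2 := Iff.rfl

/-- the projection to `S_n` -/
def TP (π₀ : G →* alternatingGroup (Fin (n + 2))) : TT π₀ →* Perm (Fin n) :=
  (MonoidHom.snd G (Perm (Fin n))).comp (TT π₀).subtype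

/-- the projection to the double cover of `A_{n+2}` -/
def TG (π₀ : G →* alternatingGroup (Fin (n + 2))) : TT π₀ →* G :=
  (MonoidHom.fst G (Perm (Fin n))).comp (TT π₀).subtype

theorem TT_eq {π₀ : G →* alternatingGroup (Fin (n + 2))} (x : TT π₀) : π₀ (TG π₀ x) = twA n (TP π₀ x) := x.2

theorem TT_ext {π₀ : G →* alternatingGroup (Fin (n + 2))} {x y : TT π₀} (h1 : TG π₀ x = TG π₀ y)
    (h2 : TP π₀ x = TP π₀ y) : x = y := Subtype.ext (Prod.ext h1 h2)

/-- the central involution -/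
def Tz {π₀ : G →* alternatingGroup (Fin (n + 2))} {z₀ : G} (hG : IsCover π₀ z₀) : TT π₀ :=
  ⟨(z₀, 1), mem_TT.2 (by rw [map_one]; exact hG.map_z)⟩

theorem TG_Tz {π₀ : G →* alternatingGroup (Fin (n + 2))} {z₀ : G} (hG : IsCover π₀ z₀) :
    TG π₀ (Tz hG) = z₀ := rfl

theorem TP_Tz {π₀ : G →* alternatingGroup (Fin (n + 2))} {z₀ : G} (hG : IsCover π₀ z₀) :
    TP π₀ (Tz hG) = 1 := rfl

theorem TP_surj {π₀ : G →* alternatingGroup (Fin (n + 2))} {z₀ : G} (hG : IsCover π₀ z₀) :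
    Function.Surjective (TP π₀) := by
  intro σ
  obtain ⟨g, hg⟩ := hG.surj (twA n σ)
  exact ⟨⟨(g, σ), hg⟩, rfl⟩

theorem TP_ker {π₀ : G →* alternatingGroup (Fin (n + 2))} {z₀ : G} (hG : IsCover π₀ z₀) (x : TT π₀) :
    TP π₀ x = 1 ↔ x = 1 ∨ x = Tz hG := by
  constructor
  · intro hx
    have h1 : π₀ (TG π₀ x) = 1 := by rw [TT_eq, hx, map_one]
    rcases (hG.ker _).1 h1 with h2 | h2
    · left
      exact TT_ext (by rw [h2, map_one]) (by rw [hx, map_one])
    · right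
      exact TT_ext (by rw [h2, TG_Tz]) (by rw [hx, TP_Tz])
  · rintro (rfl | rfl)
    · exact map_one _
    · exact TP_Tz hG

theorem Tz_ne {π₀ : G →* alternatingGroup (Fin (n + 2))} {z₀ : G} (hG : IsCover π₀ z₀) : Tz hG ≠ 1 := by
  intro h
  have := congrArg (TG π₀) h
  rw [TG_Tz, map_one] at this
  exact hG.z_ne this

theorem Tz_comm {π₀ : G →* alternatingGroup (Fin (n + 2))} {z₀ : G} (hG : IsCover π₀ z₀) (x : TT π₀) :
    x * Tz hG = Tz hG * x :=
  TT_ext (by rw [map_mul, map_mul, TG_Tz]; exact hG.z_comm _)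
    (by rw [map_mul, map_mul, TP_Tz, mul_one, one_mul])

theorem Tz_mul {π₀ : G →* alternatingGroup (Fin (n + 2))} {z₀ : G} (hG : IsCover π₀ z₀) :
    Tz hG * Tz hG = 1 :=
  TT_ext (by rw [map_mul, TG_Tz, map_one]; exact hG.z_mul)
    (by rw [map_mul, TP_Tz, mul_one, map_one])

theorem spinData_TT {π₀ : G →* alternatingGroup (Fin (n + 2))} {z₀ : G} [Finite G] (hG : IsCover π₀ z₀)
    {ι : Type} [Fintype ι] [DecidableEq ι] {γ : Fin (n + 2) → Matrix ι ι ℂ}
    {f : G →* (Matrix ι ι ℂ)ˣ} (h : SpinRep π₀ z₀ γ f) :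
    SpinData n (TP π₀) (Tz hG) (fun x => Matrix.trace (f (TG π₀ x) : Matrix ι ι ℂ)) := by
  have hev : Even (n + 2) ↔ Even n := by
    rw [Nat.even_add]; simp
  refine ⟨TP_surj hG, Tz_ne hG, Tz_comm hG, TP_ker hG, ?_, ?_, ?_, ?_, ?_, ?_, ?_⟩
  · intro g k
    simp only [map_mul, map_inv, Units.val_mul]
    rw [Matrix.trace_mul_comm, ← mul_assoc, Units.inv_mul, one_mul]
  · intro x
    change Matrix.trace (f (TG π₀ (Tz hG * x)) : Matrix ι ι ℂ) = -Matrix.trace (f (TG π₀ x) : Matrix ι ι ℂ)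
    rw [map_mul, TG_Tz, map_mul, Units.val_mul, h.map_z, neg_mul, one_mul, Matrix.trace_neg]
  · intro x hx
    have h1 := (trace_sq h (TG π₀ x)).1
    rw [TT_eq, coe_twA, odd_tw_iff, ty_tw_even n (sign_of_odd hx)] at h1
    have h2 := h1 hx
    rw [Multiset.card_add] at h2
    change _ = (2 : ℂ) ^ (Multiset.card (ty (TP π₀ x)) + 2) at h2
    simp only [hev] at h2
    change Matrix.trace (f (TG π₀ x) : Matrix ι ι ℂ) * (starRingEnd ℂ) (Matrix.trace (f (TG π₀ x) : Matrix ι ι ℂ)) = _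
    by_cases hn : Even n
    · rw [if_pos hn] at h2 ⊢
      rw [← h2, mul_one]
    · rw [if_neg hn] at h2 ⊢
      have h3 : (2 : ℂ) ≠ 0 := two_ne_zero
      apply mul_right_cancel₀ h3
      rw [h2]
      ring
  · intro x hx
    have h1 := (trace_sq h (TG π₀ x)).2
    rw [TT_eq, coe_twA, odd_tw_iff] at h1
    exact h1 hx
  · refine ⟨(n + 2) / 2, ?_⟩
    change Matrix.trace (f (TG π₀ 1) : Matrix ι ι ℂ) = _
    rw [map_one, map_one, Units.val_one, Matrix.trace_one, h.card]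
    push_cast
    rfl
  · intro m a _
    refine divK hG h (TG π₀) (TP π₀) TT_eq (X := Unit) (fun _ => ()) ?_ (fun _ _ _ => rfl) a _ ?_
    · intro x
      exact ⟨0, by simp, rfl⟩
    · rw [Fintype.card_unit]
      split_ifs <;> omega
  · intro m a _
    refine divK hG h ((TG π₀).comp (Subgroup.subtype _)) ((TP π₀).comp (Subgroup.subtype _)) (fun x => TT_eq _)
      (X := Fin 2) (fun i => if (i : ℕ) = 0 then 0 else 1) ?_ ?_ a _ ?_
    · intro x
      rcases (by omega : x = 0 ∨ x = 1) with rfl | rfl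
      · exact ⟨0, by simp, by simp⟩
      · exact ⟨1, by simp, by simp⟩
    · intro x i hi
      have hx : sign (TP π₀ (x : TT π₀)) = 1 := mem_alternatingGroup.1 x.2
      rw [MonoidHom.comp_apply]
      change (if ((tw n (TP π₀ (x : TT π₀)) i : Fin (n + 2)) : ℕ) = 0 then (0 : Fin 2) else 1) = _
      rw [tw_fix n hx hi]
    · rw [Fintype.card_fin]
      split_ifs <;> omega

/-- the double cover of `A_n` inside the twisted double cover of `S_n` -/
def TA (π₀ : G →* alternatingGroup (Fin (n + 2))) :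
    ((alternatingGroup (Fin n)).comap (TP π₀) : Subgroup (TT π₀)) →* alternatingGroup (Fin n) :=
  ((TP π₀).comp (Subgroup.subtype _)).codRestrict (alternatingGroup (Fin n)) fun x => x.2

theorem coe_TA (π₀ : G →* alternatingGroup (Fin (n + 2)))
    (x : ((alternatingGroup (Fin n)).comap (TP π₀) : Subgroup (TT π₀))) :
    (TA π₀ x : Perm (Fin n)) = TP π₀ (x : TT π₀) := rfl

theorem isCover_TA (hn : 5 ≤ n) {π₀ : G →* alternatingGroup (Fin (n + 2))} {z₀ : G} (hG : IsCover π₀ z₀) :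
    ∃ z' : ((alternatingGroup (Fin n)).comap (TP π₀) : Subgroup (TT π₀)), (z' : TT π₀) = Tz hG ∧
      IsCover (TA π₀) z' := by
  have hz : Tz hG ∈ ((alternatingGroup (Fin n)).comap (TP π₀) : Subgroup (TT π₀)) := by
    rw [Subgroup.mem_comap, TP_Tz]
    exact one_mem _
  refine ⟨⟨Tz hG, hz⟩, rfl, ?_⟩
  constructor
  · exact fun hh => Tz_ne hG (congrArg Subtype.val hh)
  · exact Subtype.ext (Tz_mul hG)
  · exact fun x => Subtype.ext (Tz_comm hG x)
  · intro σ
    obtain ⟨x, hx⟩ := TP_surj hG (σ : Perm (Fin n))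
    refine ⟨⟨x, ?_⟩, Subtype.ext hx⟩
    rw [Subgroup.mem_comap, hx]
    exact σ.2
  · intro x
    have h1 : TA π₀ x = 1 ↔ TP π₀ (x : TT π₀) = 1 := by
      rw [← coe_TA]
      exact ⟨fun hh => congrArg Subtype.val hh, fun hh => Subtype.ext hh⟩
    rw [h1, TP_ker hG]
    constructor
    · rintro (hh | hh)
      · exact Or.inl (Subtype.ext hh)
      · exact Or.inr (Subtype.ext hh)
    · rintro (rfl | rfl)
      · exact Or.inl rfl
      · exact Or.inr rfl
  · intro s hs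
    obtain ⟨m, rfl⟩ : ∃ m, n = m + 2 := ⟨n - 2, by omega⟩
    let S : alternatingGroup (Fin (m + 2)) →* G := (TG π₀).comp ((Subgroup.subtype _).comp s)
    have hS : ∀ i (hi : i < m), π₀ (S (cy m i hi)) = cy (m + 2) (i + 2) (by omega) := by
      intro i hi
      have h1 : π₀ (S (cy m i hi)) = twA (m + 2) (TP π₀ ((s (cy m i hi) : _) : TT π₀)) := TT_eq _
      rw [h1, ← coe_TA, hs, twA_cy]
    have h3 : ∀ i (hi : i < m), S (cy m i hi) ^ 3 = 1 := by
      intro i hi
      rw [← map_pow, cy_cube, map_one]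
    have h2 : (S (cy m 0 (by omega)) * S (cy m 1 (by omega))) ^ 2 = 1 := by
      rw [← map_mul, ← map_pow, cy_sq _ _ (by omega), map_one]
    have h4 := hG.sq_eq (by omega) (i := 2) (j := 3) (by omega) (by omega) (by omega)
      (h3 0 (by omega)) (hS 0 (by omega)) (h3 1 (by omega)) (hS 1 (by omega))
    rw [h2] at h4
    exact hG.z_ne h4.symm

theorem finite_model (n : ℕ) : Finite (model n) := by
  have h1 : Finite (Cfsg.Agent.CharactersDeep.DoubleCover.E n) :=
    Finite.of_injective (fun e : Cfsg.Agent.CharactersDeep.DoubleCover.E n =>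
      (e : Cfsg.Agent.CharactersDeep.DoubleCover.V n → Cfsg.Agent.CharactersDeep.DoubleCover.V n))
      DFunLike.coe_injective
  have h2 : Finite (Cfsg.Agent.CharactersDeep.DoubleCover.E n)ˣ := Finite.of_injective Units.val Units.val_injective
  infer_instance

theorem exists_spinData_of (hn : 5 ≤ n) {π₀ : G →* alternatingGroup (Fin (n + 2))} {z₀ : G} [Finite G]
    (hG : IsCover π₀ z₀) {H : Type*} [Group H] {π : H →* alternatingGroup (Fin n)} {z : H} (h : IsCover π z) :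
    ∃ (T : Type) (_ : Group T) (_ : Finite T) (P : T →* Equiv.Perm (Fin n)) (zT : T) (b : T → ℂ)
      (e : H ≃* ((alternatingGroup (Fin n)).comap P : Subgroup T)),
      SpinData n P zT b ∧ (∀ x, P (e x : T) = (π x : Equiv.Perm (Fin n))) ∧ (e z : T) = zT := by
  obtain ⟨ι, i1, i2, γ, f, hf⟩ := exists_spinRep (by omega) hG
  obtain ⟨z', hz', hc⟩ := isCover_TA hn hG
  obtain ⟨e, he1, he2⟩ := exists_mulEquiv hn h hc
  exact ⟨TT π₀, inferInstance, inferInstance, TP π₀, Tz hG, _, e, spinData_TT hG hf,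
    fun x => (coe_TA π₀ (e x)).symm.trans (congrArg Subtype.val (he1 x)),
    (congrArg Subtype.val he2).trans hz'⟩

/-- **F4**: the spin data. -/
theorem exists_spinData {n : ℕ} (hn : 5 ≤ n) {H : Type*} [Group H] [Finite H]
    {π : H →* alternatingGroup (Fin n)} {z : H} (h : IsCover π z) :
    ∃ (T : Type) (_ : Group T) (_ : Finite T) (P : T →* Equiv.Perm (Fin n)) (zT : T) (b : T → ℂ)
      (e : H ≃* ((alternatingGroup (Fin n)).comap P : Subgroup T)),
      SpinData n P zT b ∧ (∀ x, P (e x : T) = (π x : Equiv.Perm (Fin n))) ∧ (e z : T) = zT := by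
  have hfin := finite_model (n + 2)
  exact exists_spinData_of hn (isCover_model (n := n + 2) (by omega)) h

end final

end Cfsg.Agent.H686.Spin
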