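import Cfsg.Agent.H686.Spin.Omega
import Cfsg.Agent.H791.Spin.Div

/-!
# S4578, task F4, part 2: spin character times a permutation character is divisible by a power of two
-/

set_option autoImplicit false

namespace Cfsg.Agent.H686.Spin

open Finset Cfsg Cfsg.Agent.H614
open Cfsg.Agent.Lib.AltCarmichael Cfsg.Agent.SporadicRecognition.AltCover

section big

variable {T : Type*} [Group T] {ι : Type*} [Fintype ι] [DecidableEq ι]
  {C : Type*} [Fintype C] [DecidableEq C] [MulAction T C]

/-- the tensor product of a matrix representation with a permutation representation -/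
def big (f : T →* (Matrix ι ι ℂ)ˣ) (C : Type*) [Fintype C] [DecidableEq C] [MulAction T C] :
    T →* Matrix (ι × C) (ι × C) ℂ where
  toFun x := Matrix.of fun p q => if p.2 = x • q.2 then (f x : Matrix ι ι ℂ) p.1 q.1 else 0
  map_one' := by
    ext ⟨i, c⟩ ⟨j, d⟩
    simp only [Matrix.of_apply, one_smul, map_one, Units.val_one, Matrix.one_apply, Prod.mk.injEq]
    by_cases h1 : c = d <;> by_cases h2 : i = j <;> simp [h1, h2]
  map_mul' x y := by
    ext ⟨i, c⟩ ⟨j, d⟩
    rw [Matrix.mul_apply, Fintype.sum_prod_type]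
    simp only [Matrix.of_apply, map_mul, Units.val_mul, Matrix.mul_apply, mul_smul]
    by_cases h1 : c = x • y • d
    · rw [if_pos h1]
      refine Finset.sum_congr rfl fun l _ => ?_
      rw [Finset.sum_eq_single (y • d)]
      · rw [if_pos h1, if_pos rfl]
      · intro e _ he
        rw [if_neg he, mul_zero]
      · intro hh
        exact absurd (Finset.mem_univ _) hh
    · rw [if_neg h1]
      symm
      refine Finset.sum_eq_zero fun l _ => Finset.sum_eq_zero fun e _ => ?_
      by_cases he : e = y • d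
      · rw [he, if_neg h1, zero_mul]
      · rw [if_neg he, mul_zero]

theorem big_apply (f : T →* (Matrix ι ι ℂ)ˣ) (x : T) (p q : ι × C) :
    big f C x p q = if p.2 = x • q.2 then (f x : Matrix ι ι ℂ) p.1 q.1 else 0 := rfl

theorem trace_big (f : T →* (Matrix ι ι ℂ)ˣ) (x : T) :
    Matrix.trace (big f C x) = Matrix.trace (f x : Matrix ι ι ℂ) * Nat.card (MulAction.fixedBy C x) := by
  have h1 : (Nat.card (MulAction.fixedBy C x) : ℂ) = ∑ c : C, if c = x • c then (1 : ℂ) else 0 := by
    rw [Finset.sum_boole, Nat.card_eq_fintype_card, Fintype.card_subtype]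
    congr 2
    ext c
    simp only [Finset.mem_filter, Finset.mem_univ, true_and, MulAction.mem_fixedBy]
    exact eq_comm
  rw [h1, Matrix.trace, Matrix.trace, Fintype.sum_prod_type, Finset.sum_mul]
  refine Finset.sum_congr rfl fun i _ => ?_
  rw [Finset.mul_sum]
  refine Finset.sum_congr rfl fun c _ => ?_
  simp only [Matrix.diag_apply, big_apply]
  by_cases h : c = x • c
  · rw [if_pos h, if_pos h, mul_one]
  · rw [if_neg h, if_neg h, mul_zero]

theorem block_comm (f : T →* (Matrix ι ι ℂ)ˣ) (x : T) {M : C → Matrix ι ι ℂ}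
    (hM : ∀ c, (f x : Matrix ι ι ℂ) * M c = M (x • c) * (f x : Matrix ι ι ℂ)) :
    Matrix.blockDiagonal M * big f C x = big f C x * Matrix.blockDiagonal M := by
  ext ⟨i, c⟩ ⟨j, d⟩
  rw [Matrix.mul_apply, Matrix.mul_apply, Fintype.sum_prod_type, Fintype.sum_prod_type]
  have e1 : ∀ l : ι, (∑ e : C, Matrix.blockDiagonal M (i, c) (l, e) * big f C x (l, e) (j, d)) =
      if c = x • d then M c i l * (f x : Matrix ι ι ℂ) l j else 0 := by
    intro l
    rw [Finset.sum_eq_single c]
    · rw [Matrix.blockDiagonal_apply, if_pos rfl, big_apply]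
      by_cases h : c = x • d
      · rw [if_pos h, if_pos h]
      · rw [if_neg h, if_neg h, mul_zero]
    · intro e _ he
      rw [Matrix.blockDiagonal_apply, if_neg (Ne.symm he), zero_mul]
    · intro hh
      exact absurd (Finset.mem_univ _) hh
  have e2 : ∀ l : ι, (∑ e : C, big f C x (i, c) (l, e) * Matrix.blockDiagonal M (l, e) (j, d)) =
      if c = x • d then (f x : Matrix ι ι ℂ) i l * M d l j else 0 := by
    intro l
    rw [Finset.sum_eq_single d]
    · rw [Matrix.blockDiagonal_apply, if_pos rfl, big_apply]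
      by_cases h : c = x • d
      · rw [if_pos h, if_pos h]
      · rw [if_neg h, if_neg h, zero_mul]
    · intro e _ he
      rw [Matrix.blockDiagonal_apply, if_neg he, mul_zero]
    · intro hh
      exact absurd (Finset.mem_univ _) hh
  rw [Finset.sum_congr rfl fun l _ => e1 l, Finset.sum_congr rfl fun l _ => e2 l]
  by_cases h : c = x • d
  · simp only [if_pos h]
    rw [← Matrix.mul_apply, ← Matrix.mul_apply, hM d, ← h]
  · simp only [if_neg h]

end big

/-- **The divisibility**: the spin character times the permutation character on a set of colourings. -/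
theorem exists_theta {N : ℕ} {G : Type*} [Group G] {π : G →* alternatingGroup (Fin N)} {z : G}
    (hc : IsCover π z) {ι : Type} [Fintype ι] [DecidableEq ι] {γ : Fin N → Matrix ι ι ℂ}
    {f : G →* (Matrix ι ι ℂ)ˣ} (h : SpinRep π z γ f)
    {T : Type*} [Group T] [Finite T] (φ : T →* G) {C : Type*} [Finite C] [MulAction T C]
    {D : Type*} [Fintype D] [DecidableEq D] (col : C → Fin N → D) (s : D → ℕ)
    (hs : ∀ c d, #{i | col c i = d} = s d)
    (hcol : ∀ x c i, col (x • c) ((π (φ x) : Equiv.Perm (Fin N)) i) = col c i)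
    (k : ℕ) (hk : 2 * k ≤ #{d | s d ≠ 0} + if Even N then 1 else 0) :
    ∃ θ : T → ℂ, IsCharacter T θ ∧ ∀ x,
      Matrix.trace (f (φ x) : Matrix ι ι ℂ) * Nat.card (MulAction.fixedBy C x) = 2 ^ k * θ x := by
  classical
  have := Fintype.ofFinite C
  obtain ⟨ω, hω, hωsq, hωc⟩ : ∃ ω : Matrix ι ι ℂ, (Even N → ∀ i, γ i * ω = -(ω * γ i)) ∧
      (Even N → ∃ c : ℂ, c ≠ 0 ∧ ω * ω = c • (1 : Matrix ι ι ℂ)) ∧
      ∀ g, ω * (f g : Matrix ι ι ℂ) = (f g : Matrix ι ι ℂ) * ω := by
    by_cases hN : Even N
    · obtain ⟨ω, h1, h2, h3⟩ := exists_omega hc h hN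
      exact ⟨ω, fun _ => h1, fun _ => h2, h3⟩
    · exact ⟨0, fun h => absurd h hN, fun h => absurd h hN, fun g => by rw [zero_mul, mul_zero]⟩
  -- the vectors
  let v : C → D → Matrix ι ι ℂ := fun c d => ∑ i with col c i = d, γ i
  let B : Option D → C → Matrix ι ι ℂ := fun o => o.elim (fun _ => ω) (fun d c => v c d)
  have hBn : B none = fun _ => ω := rfl
  have hBs : ∀ d, B (some d) = fun c => v c d := fun d => rfl
  let V : Finset (Option D) := (Finset.univ.filter fun d => s d ≠ 0).map Function.Embedding.some ∪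
    if Even N then {none} else ∅
  have hVs : ∀ d, some d ∈ V → s d ≠ 0 := by
    intro d hd
    rcases Finset.mem_union.1 hd with h1 | h1
    · obtain ⟨d', hd', h2⟩ := Finset.mem_map.1 h1
      have : d' = d := Option.some_injective _ h2
      rw [← this]
      exact (Finset.mem_filter.1 hd').2
    · split_ifs at h1
      · simp at h1
      · simp at h1
  have hVn : none ∈ V → Even N := by
    intro hn
    rcases Finset.mem_union.1 hn with h1 | h1
    · obtain ⟨d', hd', h2⟩ := Finset.mem_map.1 h1
      exact absurd h2 (by simp)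
    · split_ifs at h1 with h2
      · exact h2
      · simp at h1
  have hVcard : #V = #{d | s d ≠ 0} + if Even N then 1 else 0 := by
    rw [Finset.card_union_of_disjoint, Finset.card_map]
    · split_ifs <;> simp
    · rw [Finset.disjoint_left]
      intro o ho ho'
      obtain ⟨d', hd', h2⟩ := Finset.mem_map.1 ho
      rw [← h2] at ho'
      split_ifs at ho'
      · simp at ho'
      · simp at ho'
  have hemb : Nonempty (Fin (2 * k) ↪ V) := by
    rw [Function.Embedding.nonempty_iff_card_le, Fintype.card_fin, Fintype.card_coe, hVcard]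
    exact hk
  obtain ⟨u⟩ := hemb
  have hanti : ∀ o ∈ V, ∀ o' ∈ V, o ≠ o' → ∀ c, B o c * B o' c = -(B o' c * B o c) := by
    have hvω : Even N → ∀ c d, v c d * ω = -(ω * v c d) := by
      intro hN c d
      simp only [v]
      rw [Finset.sum_mul, Finset.mul_sum, ← Finset.sum_neg_distrib]
      exact Finset.sum_congr rfl fun i _ => hω hN i
    intro o ho o' ho' hne c
    rcases o with _ | d
    · rcases o' with _ | d'
      · exact absurd rfl hne
      · change ω * v c d' = -(v c d' * ω)
        rw [hvω (hVn ho), neg_neg]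
    · rcases o' with _ | d'
      · exact hvω (hVn ho') c d
      · change v c d * v c d' = -(v c d' * v c d)
        refine sum_anti h.anti ?_
        rw [Finset.disjoint_filter]
        intro i _ h1 h2
        exact hne (congrArg some (h1.symm.trans h2))
  have hsq : ∀ o ∈ V, ∃ a : ℂ, a ≠ 0 ∧ ∀ c, B o c * B o c = a • (1 : Matrix ι ι ℂ) := by
    intro o ho
    rcases o with _ | d
    · obtain ⟨a, ha, hωω⟩ := hωsq (hVn ho)
      exact ⟨a, ha, fun _ => hωω⟩
    · refine ⟨-(s d : ℂ), neg_ne_zero.2 (Nat.cast_ne_zero.2 (hVs d ho)), fun c => ?_⟩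
      change v c d * v c d = _
      have h1 := sum_sq h.sq h.anti (Finset.univ.filter fun i => col c i = d)
      rw [hs c d] at h1
      rw [neg_smul]
      change v c d * v c d = _ at h1
      rw [h1, Nat.cast_smul_eq_nsmul, nsmul_one]
  have hcomm : ∀ o, ∀ x c, (f (φ x) : Matrix ι ι ℂ) * B o c = B o (x • c) * (f (φ x) : Matrix ι ι ℂ) := by
    intro o x c
    rcases o with _ | d
    · exact (hωc _).symm
    · change (f (φ x) : Matrix ι ι ℂ) * v c d = v (x • c) d * (f (φ x) : Matrix ι ι ℂ)
      simp only [v]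
      rw [Finset.mul_sum, Finset.sum_mul]
      refine Finset.sum_bij (fun i _ => (π (φ x) : Equiv.Perm (Fin N)) i) ?_ ?_ ?_ ?_
      · intro i hi
        rw [Finset.mem_filter] at hi ⊢
        exact ⟨Finset.mem_univ _, (hcol x c i).trans hi.2⟩
      · intro i _ j _ hij
        exact (π (φ x) : Equiv.Perm (Fin N)).injective hij
      · intro j hj
        rw [Finset.mem_filter] at hj
        refine ⟨(π (φ x) : Equiv.Perm (Fin N)).symm j, ?_, Equiv.apply_symm_apply _ _⟩
        rw [Finset.mem_filter]
        refine ⟨Finset.mem_univ _, ?_⟩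
        rw [← hcol x c, Equiv.apply_symm_apply]
        exact hj.2
      · intro i _
        exact h.equiv _ _
  obtain ⟨F, hF⟩ : ∃ F : T →* (Matrix (ι × C) (ι × C) ℂ)ˣ, F = (big (f.comp φ) C).toHomUnits := ⟨_, rfl⟩
  have hFx : ∀ x, (F x : Matrix (ι × C) (ι × C) ℂ) = big (f.comp φ) C x := fun x => by rw [hF]; rfl
  have g1 : ∀ i : Fin (2 * k), ∃ c : ℂ, c ≠ 0 ∧ Matrix.blockDiagonal (B (u i)) * Matrix.blockDiagonal (B (u i)) =
      c • (1 : Matrix (ι × C) (ι × C) ℂ) := by
    intro i
    obtain ⟨a, ha, hBB⟩ := hsq (u i) (u i).2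
    refine ⟨a, ha, ?_⟩
    rw [← Matrix.blockDiagonal_mul]
    have : (fun c => B (u i) c * B (u i) c) = a • (1 : C → Matrix ι ι ℂ) := by
      funext c
      exact hBB c
    rw [this, Matrix.blockDiagonal_smul, Matrix.blockDiagonal_one]
  have g2 : ∀ i j : Fin (2 * k), i ≠ j → Matrix.blockDiagonal (B (u i)) * Matrix.blockDiagonal (B (u j)) =
      -(Matrix.blockDiagonal (B (u j)) * Matrix.blockDiagonal (B (u i))) := by
    intro i j hij
    rw [← Matrix.blockDiagonal_mul, ← Matrix.blockDiagonal_mul, ← Matrix.blockDiagonal_neg]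
    congr 1
    funext c
    exact hanti _ (u i).2 _ (u j).2 (fun hh => hij (u.injective (Subtype.ext hh))) c
  have g3 : ∀ (i : Fin (2 * k)) (x : T), Matrix.blockDiagonal (B (u i)) * (F x : Matrix (ι × C) (ι × C) ℂ) =
      (F x : Matrix (ι × C) (ι × C) ℂ) * Matrix.blockDiagonal (B (u i)) := by
    intro i x
    rw [hFx]
    exact block_comm (f.comp φ) x fun c => hcomm _ x c
  obtain ⟨θ, hθ, hθ2⟩ := Cfsg.Agent.H791.Spin.exists_div F k (fun i => Matrix.blockDiagonal (B (u i))) g1 g2 g3
  refine ⟨θ, hθ, fun x => ?_⟩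
  rw [← hθ2, hFx, trace_big]
  rfl

end Cfsg.Agent.H686.Spin
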