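import Cfsg.Agent.H686.Spin.Rep

/-!
# S4578, task F4, part 1: sums and the product of the gamma matrices
-/

set_option autoImplicit false

namespace Cfsg.Agent.H686.Spin

open Finset Cfsg Cfsg.Agent.H614
open Cfsg.Agent.Lib.AltCarmichael Cfsg.Agent.SporadicRecognition.AltCover

section vec

variable {R : Type*} [Ring R] {ι : Type*} {γ : ι → R}

theorem sum_anti (hac : ∀ i j, i ≠ j → γ i * γ j = -(γ j * γ i)) {S S' : Finset ι} (h : Disjoint S S') :
    (∑ i ∈ S, γ i) * (∑ j ∈ S', γ j) = -((∑ j ∈ S', γ j) * (∑ i ∈ S, γ i)) := by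
  rw [Finset.sum_mul_sum, Finset.sum_mul_sum, Finset.sum_comm, ← Finset.sum_neg_distrib]
  refine Finset.sum_congr rfl fun j hj => ?_
  rw [← Finset.sum_neg_distrib]
  refine Finset.sum_congr rfl fun i hi => ?_
  exact hac i j fun hij => Finset.disjoint_left.1 h hi (hij ▸ hj)

theorem sum_sq (hsq : ∀ i, γ i * γ i = -1) (hac : ∀ i j, i ≠ j → γ i * γ j = -(γ j * γ i)) (S : Finset ι) :
    (∑ i ∈ S, γ i) * (∑ i ∈ S, γ i) = -(#S : R) := by
  classical
  induction S using Finset.induction_on with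
  | empty => simp
  | insert a S ha ih =>
    rw [Finset.sum_insert ha, Finset.card_insert_of_notMem ha]
    have h1 : γ a * (∑ i ∈ S, γ i) = -((∑ i ∈ S, γ i) * γ a) := by
      have := sum_anti hac (S := {a}) (S' := S) (Finset.disjoint_singleton_left.2 ha)
      rwa [Finset.sum_singleton] at this
    rw [add_mul, mul_add, mul_add, hsq, h1, ih]
    push_cast
    abel

theorem list_anti (hac : ∀ i j, i ≠ j → γ i * γ j = -(γ j * γ i))
    [DecidableEq ι] (i : ι) (L : List ι) :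
    γ i * (L.map γ).prod = (-1) ^ (L.countP (fun j => decide (j ≠ i))) * ((L.map γ).prod * γ i) := by
  induction L with
  | nil => simp
  | cons j L ih =>
    rw [List.map_cons, List.prod_cons]
    have hc : ∀ (k : ℕ) (x y : R), x * ((-1) ^ k * y) = (-1) ^ k * (x * y) := by
      intro k x y
      rw [← mul_assoc, ← mul_assoc]
      congr 1
      exact ((Commute.neg_one_left x).pow_left k).eq.symm
    by_cases hj : j = i
    · subst hj
      rw [List.countP_cons_of_neg (by simp)]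
      conv_lhs => rw [ih, hc, ← mul_assoc (γ j)]
    · rw [List.countP_cons_of_pos (by simpa using hj), ← mul_assoc, hac i j (Ne.symm hj), neg_mul, mul_assoc, ih, hc,
        pow_succ, mul_assoc ((-1 : R) ^ _), neg_one_mul, mul_neg, mul_assoc]

theorem list_unit (hsq : ∀ i, γ i * γ i = -1) (L : List ι) : IsUnit (L.map γ).prod := by
  induction L with
  | nil => simp
  | cons j L ih =>
    rw [List.map_cons, List.prod_cons]
    refine IsUnit.mul ?_ ih
    have h1 : γ j * (-γ j) = 1 := by rw [mul_neg, hsq, neg_neg]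
    have h2 : (-γ j) * γ j = 1 := by rw [neg_mul, hsq, neg_neg]
    exact ⟨⟨γ j, -γ j, h1, h2⟩, rfl⟩

theorem exists_prod {N : ℕ} {γ : Fin N → R} (hsq : ∀ i, γ i * γ i = -1)
    (hac : ∀ i j, i ≠ j → γ i * γ j = -(γ j * γ i)) (hN : Even N) :
    ∃ ω : R, IsUnit ω ∧ ∀ i, γ i * ω = -(ω * γ i) := by
  refine ⟨((List.finRange N).map γ).prod, list_unit hsq _, fun i => ?_⟩
  have hcount : (List.finRange N).countP (fun j => decide (j ≠ i)) + 1 = N := by
    have h1 := List.length_eq_countP_add_countP (fun j => decide (j ≠ i)) (l := List.finRange N)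
    rw [List.length_finRange] at h1
    have h2 : (List.finRange N).countP (fun a => decide (¬ decide (a ≠ i) = true)) = 1 := by
      have h3 := List.count_eq_one_of_mem (List.nodup_finRange N) (List.mem_finRange i)
      rw [List.count_eq_countP] at h3
      rw [← h3]
      refine List.countP_congr fun a _ => ?_
      simp
    rw [h2] at h1
    exact h1.symm
  have hodd : Odd ((List.finRange N).countP (fun j => decide (j ≠ i))) := by
    rw [← hcount] at hN
    exact Nat.not_even_iff_odd.1 (Nat.even_add_one.1 hN)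
  rw [list_anti hac, hodd.neg_one_pow, neg_one_mul]

end vec

/-- the product of all the gamma matrices commutes with the spin group -/
theorem exists_omega {N : ℕ} {G : Type*} [Group G] {π : G →* alternatingGroup (Fin N)} {z : G}
    (hc : IsCover π z) {ι : Type} [Fintype ι] [DecidableEq ι] {γ : Fin N → Matrix ι ι ℂ}
    {f : G →* (Matrix ι ι ℂ)ˣ} (h : SpinRep π z γ f) (hN : Even N) :
    ∃ ω : Matrix ι ι ℂ, (∀ i, γ i * ω = -(ω * γ i)) ∧
      (∃ c : ℂ, c ≠ 0 ∧ ω * ω = c • (1 : Matrix ι ι ℂ)) ∧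
      ∀ g, ω * (f g : Matrix ι ι ℂ) = (f g : Matrix ι ι ℂ) * ω := by
  obtain ⟨ω, hu, hω⟩ := exists_prod h.sq h.anti hN
  have hne : Nonempty ι := by
    rw [← Fintype.card_pos_iff, h.card]
    positivity
  have e2' : ∀ j, ω * γ j = -(γ j * ω) := fun j => by rw [hω j, neg_neg]
  obtain ⟨c, hcc⟩ := h.scalar (ω * ω) fun i => by
    rw [mul_assoc, e2', mul_neg, ← mul_assoc, e2', neg_mul, neg_neg, mul_assoc]
  have hc0 : c ≠ 0 := by
    rintro rfl
    rw [zero_smul] at hcc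
    have h1 : IsUnit (ω * ω) := hu.mul hu
    rw [hcc] at h1
    exact not_isUnit_zero h1
  have hω0 : ω ≠ 0 := hu.ne_zero
  refine ⟨ω, hω, ⟨c, hc0, hcc⟩, ?_⟩
  -- the scalar
  have hχ : ∀ g, ∃ χ : ℂ, (f g : Matrix ι ι ℂ) * ω = χ • (ω * (f g : Matrix ι ι ℂ)) := by
    intro g
    obtain ⟨M, hM⟩ : ∃ M, M = f g := ⟨_, rfl⟩
    have hMγ : ∀ i, (M : Matrix ι ι ℂ) * γ i = γ ((π g : Equiv.Perm (Fin N)) i) * (M : Matrix ι ι ℂ) := by
      rw [hM]; exact h.equiv g
    have hMγ' : ∀ i, ((M⁻¹ : (Matrix ι ι ℂ)ˣ) : Matrix ι ι ℂ) * γ i =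
        γ ((π g : Equiv.Perm (Fin N)).symm i) * ((M⁻¹ : (Matrix ι ι ℂ)ˣ) : Matrix ι ι ℂ) := by
      intro i
      have h1 := hMγ ((π g : Equiv.Perm (Fin N)).symm i)
      rw [Equiv.apply_symm_apply] at h1
      calc ((M⁻¹ : (Matrix ι ι ℂ)ˣ) : Matrix ι ι ℂ) * γ i
          = ((M⁻¹ : (Matrix ι ι ℂ)ˣ) : Matrix ι ι ℂ) * (γ i * (M : Matrix ι ι ℂ)) *
              ((M⁻¹ : (Matrix ι ι ℂ)ˣ) : Matrix ι ι ℂ) := by
            rw [mul_assoc, mul_assoc, Units.mul_inv, mul_one]
        _ = _ := by rw [← h1, ← mul_assoc, Units.inv_mul, one_mul]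
    obtain ⟨χ, hχ⟩ := h.scalar (ω * ((M : Matrix ι ι ℂ) * ω * ((M⁻¹ : (Matrix ι ι ℂ)ˣ) : Matrix ι ι ℂ)))
      fun i => by
        have e1 : ω * ((M : Matrix ι ι ℂ) * ω * ((M⁻¹ : (Matrix ι ι ℂ)ˣ) : Matrix ι ι ℂ)) * γ i =
            ω * ((M : Matrix ι ι ℂ) * (ω * (((M⁻¹ : (Matrix ι ι ℂ)ˣ) : Matrix ι ι ℂ) * γ i))) := by
          simp only [mul_assoc]
        have e2 : ∀ j, ω * γ j = -(γ j * ω) := fun j => by rw [hω j, neg_neg]
        rw [e1, hMγ', ← mul_assoc ω (γ _), e2, neg_mul, mul_assoc (γ _), mul_neg, ← mul_assoc (M : Matrix ι ι ℂ) (γ _),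
          hMγ, Equiv.apply_symm_apply, mul_neg, mul_assoc (γ i), ← mul_assoc ω (γ i), e2, neg_mul, neg_neg, mul_assoc]
        simp only [mul_assoc]
    refine ⟨c⁻¹ * χ, ?_⟩
    have h2 : (M : Matrix ι ι ℂ) * ω = c⁻¹ • (ω * (ω * ((M : Matrix ι ι ℂ) * ω))) := by
      rw [← mul_assoc, hcc, smul_mul_assoc, one_mul, smul_smul, inv_mul_cancel₀ hc0, one_smul]
    have h3 : ω * ((M : Matrix ι ι ℂ) * ω) = χ • (M : Matrix ι ι ℂ) := by
      calc ω * ((M : Matrix ι ι ℂ) * ω) =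
          ω * ((M : Matrix ι ι ℂ) * ω * ((M⁻¹ : (Matrix ι ι ℂ)ˣ) : Matrix ι ι ℂ)) * (M : Matrix ι ι ℂ) := by
            rw [mul_assoc, mul_assoc, mul_assoc, Units.inv_mul, mul_one]
        _ = _ := by rw [hχ, smul_mul_assoc, one_mul]
    rw [← hM, h2, h3, mul_smul_comm, smul_smul]
  have hone : ∀ g, g ^ 3 = 1 → ω * (f g : Matrix ι ι ℂ) = (f g : Matrix ι ι ℂ) * ω := by
    intro g hg
    obtain ⟨χ, hχ⟩ := hχ g
    obtain ⟨M, hM⟩ : ∃ M : Matrix ι ι ℂ, M = f g := ⟨_, rfl⟩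
    rw [← hM] at hχ ⊢
    have hM3 : M * (M * M) = 1 := by
      have : (f g) ^ 3 = 1 := by rw [← map_pow, hg, map_one]
      have h1 := congrArg Units.val this
      rw [Units.val_pow_eq_pow_val, ← hM, pow_succ, pow_two, mul_assoc] at h1
      exact h1
    have h3 : ω = χ ^ 3 • ω := by
      have e1 : M * (M * (M * ω)) = ω := by
        rw [← mul_assoc M M, ← mul_assoc, mul_assoc M M M, hM3, one_mul]
      have e2 : M * (M * (M * ω)) = χ ^ 3 • ω := by
        rw [hχ, mul_smul_comm, mul_smul_comm, ← mul_assoc M ω, hχ, smul_mul_assoc, mul_smul_comm, ← mul_assoc M,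
          ← mul_assoc M, hχ]
        simp only [smul_mul_assoc, smul_smul, mul_assoc]
        rw [hM3, mul_one]
        congr 1
        ring
      exact e1.symm.trans e2
    have h3' : χ ^ 3 = 1 := by
      have e1 : (χ ^ 3 - 1) • ω = 0 := by rw [sub_smul, ← h3, one_smul, sub_self]
      rcases smul_eq_zero.1 e1 with h4 | h4
      · exact sub_eq_zero.1 h4
      · exact absurd h4 hω0
    have h2' : χ ^ 2 = 1 := by
      have e1 : M * (ω * ω) = χ ^ 2 • ((ω * ω) * M) := by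
        rw [← mul_assoc, hχ, smul_mul_assoc, mul_assoc ω M ω, hχ, mul_smul_comm, smul_smul, ← mul_assoc, pow_two]
      rw [hcc, mul_smul_comm, smul_mul_assoc, mul_one, one_mul, smul_smul] at e1
      have hM0 : M ≠ 0 := by
        rintro rfl
        rw [zero_mul] at hM3
        exact one_ne_zero hM3.symm
      have e2 : (c - χ ^ 2 * c) • M = 0 := by rw [sub_smul, ← e1, sub_self]
      rcases smul_eq_zero.1 e2 with h4 | h4
      · have : (1 - χ ^ 2) * c = 0 := by rw [← h4]; ring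
        rcases mul_eq_zero.1 this with h5 | h5
        · exact (sub_eq_zero.1 h5).symm
        · exact absurd h5 hc0
      · exact absurd h4 hM0
    have h1' : χ = 1 := by
      have : χ ^ 3 = χ * χ ^ 2 := by ring
      rw [h3', h2', mul_one] at this
      exact this.symm
    rw [hχ, h1', one_smul]
  obtain ⟨S, hS⟩ : ∃ S : Subgroup G, ∀ x, x ∈ S ↔ ω * (f x : Matrix ι ι ℂ) = (f x : Matrix ι ι ℂ) * ω := by
    refine ⟨{ carrier := {x | ω * (f x : Matrix ι ι ℂ) = (f x : Matrix ι ι ℂ) * ω}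
              mul_mem' := ?_, one_mem' := ?_, inv_mem' := ?_ }, fun x => Iff.rfl⟩
    · intro x y hx hy
      have hx' : ω * (f x : Matrix ι ι ℂ) = (f x : Matrix ι ι ℂ) * ω := hx
      have hy' : ω * (f y : Matrix ι ι ℂ) = (f y : Matrix ι ι ℂ) * ω := hy
      change ω * (f (x * y) : Matrix ι ι ℂ) = (f (x * y) : Matrix ι ι ℂ) * ω
      rw [map_mul, Units.val_mul, ← mul_assoc, hx', mul_assoc, hy', mul_assoc]
    · change ω * (f 1 : Matrix ι ι ℂ) = (f 1 : Matrix ι ι ℂ) * ω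
      rw [map_one, Units.val_one, mul_one, one_mul]
    · intro x hx
      have hx' : ω * (f x : Matrix ι ι ℂ) = (f x : Matrix ι ι ℂ) * ω := hx
      change ω * (f x⁻¹ : Matrix ι ι ℂ) = (f x⁻¹ : Matrix ι ι ℂ) * ω
      have hcm : Commute ω ((f x : (Matrix ι ι ℂ)ˣ) : Matrix ι ι ℂ) := hx'
      rw [map_inv]
      exact hcm.units_inv_right.eq
  have hz : z ∈ S := by
    rw [hS, h.map_z, mul_neg, neg_mul, mul_one, one_mul]
  have hle : alternatingGroup (Fin N) ≤ (S.map π).map (alternatingGroup (Fin N)).subtype := by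
    refine (Equiv.Perm.closure_three_cycles_eq_alternating (α := Fin N)).symm.le.trans ?_
    rw [Subgroup.closure_le]
    intro σ hσ
    have hσ3 : σ ^ 3 = 1 := by
      have h1 : orderOf σ = 3 := Equiv.Perm.IsThreeCycle.orderOf hσ
      rw [← h1, pow_orderOf_eq_one]
    have hσa : σ ∈ alternatingGroup (Fin N) := Equiv.Perm.IsThreeCycle.mem_alternatingGroup hσ
    obtain ⟨x, hx3, hxσ⟩ := hc.exists_cube (a := ⟨σ, hσa⟩) (Subtype.ext hσ3)
    exact ⟨⟨σ, hσa⟩, ⟨x, (hS x).2 (hone x hx3), hxσ⟩, rfl⟩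
  intro g
  rw [← hS]
  obtain ⟨y, ⟨x, hx, hxy⟩, hyy⟩ := hle (π g).2
  have e1 : π g = π x := by
    rw [hxy]
    exact Subtype.ext hyy.symm
  rcases hc.eq_or_of_map_eq e1 with h1 | h1
  · rw [h1]; exact hx
  · rw [h1]; exact S.mul_mem hx hz

end Cfsg.Agent.H686.Spin
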