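import Cfsg.Agent.H686.Spin.Struct
import Cfsg.Agent.H107.SpinRep

/-!
# S4578, task F2: the basic spin representation with its gamma matrices
-/

set_option autoImplicit false

namespace Cfsg.Agent.H686.Spin

open Finset Cfsg Cfsg.Agent.H614
open Cfsg.Agent.Lib.AltCarmichael Cfsg.Agent.SporadicRecognition.AltCover

section ring

variable {R : Type*} [Ring R] {ι : Type*} {γ : ι → R}

theorem tr_sq (hsq : ∀ i, γ i * γ i = -1) (hac : ∀ i j, i ≠ j → γ i * γ j = -(γ j * γ i)) {i j : ι}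
    (h : i ≠ j) : (γ i - γ j) * (γ i - γ j) = -2 := by
  have e : (γ i - γ j) * (γ i - γ j) = γ i * γ i - γ i * γ j - γ j * γ i + γ j * γ j := by
    noncomm_ring
  rw [e, hsq, hsq, hac i j h, ← one_add_one_eq_two]
  abel

theorem tr_conj [DecidableEq ι] (hsq : ∀ i, γ i * γ i = -1)
    (hac : ∀ i j, i ≠ j → γ i * γ j = -(γ j * γ i)) {i j : ι}
    (h : i ≠ j) (l : ι) : (γ i - γ j) * γ l = -(γ (Equiv.swap i j l) * (γ i - γ j)) := by
  by_cases hi : l = i
  · subst hi
    rw [Equiv.swap_apply_left, sub_mul, mul_sub, hsq, hsq]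
    noncomm_ring
  · by_cases hj : l = j
    · subst hj
      rw [Equiv.swap_apply_right, sub_mul, mul_sub, hsq, hsq]
      noncomm_ring
    · rw [Equiv.swap_apply_of_ne_of_ne hi hj, sub_mul, mul_sub, hac i l (Ne.symm hi), hac j l (Ne.symm hj)]
      noncomm_ring

/-- vectors with disjoint supports anticommute -/
theorem tr_anti (hac : ∀ i j, i ≠ j → γ i * γ j = -(γ j * γ i)) {i j k l : ι}
    (hik : i ≠ k) (hil : i ≠ l) (hjk : j ≠ k) (hjl : j ≠ l) :
    (γ i - γ j) * (γ k - γ l) = -((γ k - γ l) * (γ i - γ j)) := by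
  have e : (γ i - γ j) * (γ k - γ l) = γ i * γ k - γ i * γ l - γ j * γ k + γ j * γ l := by
    noncomm_ring
  rw [e, hac i k hik, hac i l hil, hac j k hjk, hac j l hjl]
  noncomm_ring

/-- the anticommutator of two vectors with one common index -/
theorem tr_comm (hsq : ∀ i, γ i * γ i = -1) (hac : ∀ i j, i ≠ j → γ i * γ j = -(γ j * γ i))
    {i a b : ι} (hia : i ≠ a) (hib : i ≠ b) (hab : a ≠ b) :
    (γ i - γ a) * (γ a - γ b) + (γ a - γ b) * (γ i - γ a) = 2 := by
  have e : (γ i - γ a) * (γ a - γ b) + (γ a - γ b) * (γ i - γ a) =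
      γ i * γ a - γ i * γ b - γ a * γ a + γ a * γ b + (γ a * γ i - γ a * γ a - γ b * γ i + γ b * γ a) := by
    noncomm_ring
  rw [e, hac i a hia, hac i b hib, hac a b hab, hsq, ← one_add_one_eq_two]
  abel

theorem uv_cube {u v : R} (hu : u * u = -2) (hv : v * v = -2) (huv : u * v + v * u = 2) :
    (u * v) * (u * v) * (u * v) = -8 := by
  have h1 : v * u = 2 - u * v := by rw [← huv]; abel
  have h2 : (u * v) * (u * v) = 2 * (u * v) - 4 := by
    calc (u * v) * (u * v) = u * (v * u) * v := by noncomm_ring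
      _ = u * (2 - u * v) * v := by rw [h1]
      _ = 2 * (u * v) - (u * u) * (v * v) := by noncomm_ring
      _ = 2 * (u * v) - 4 := by rw [hu, hv]; norm_num
  rw [h2, sub_mul, mul_assoc, h2, mul_sub]
  rw [← mul_assoc, show (2 : R) * 2 = 4 by norm_num, show (2 : R) * 4 = 8 by norm_num]
  abel

theorem uvuv {u u' v : R} (hv : v * v = -2) (huv' : u' * v + v * u' = 2) (hu : u * u = -2)
    (hw : (v + u') * (v + u') = -2) (huw : u * (v + u') = -((v + u') * u)) :
    (u * v * (u' * v)) * (u * v * (u' * v)) = -16 := by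
  have h1 : v * u' = 2 - u' * v := by rw [← huv']; abel
  have h2 : u * v * (u' * v) = 2 * (u * (v + u')) := by
    calc u * v * (u' * v) = u * (v * u') * v := by noncomm_ring
      _ = u * (2 - u' * v) * v := by rw [h1]
      _ = 2 * (u * v) - u * u' * (v * v) := by noncomm_ring
      _ = 2 * (u * (v + u')) := by rw [hv]; noncomm_ring
  have h3 : (u * (v + u')) * (u * (v + u')) = -4 := by
    calc (u * (v + u')) * (u * (v + u')) = -((v + u') * u) * (u * (v + u')) := by rw [← huw]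
      _ = - ((v + u') * (u * u) * (v + u')) := by noncomm_ring
      _ = 2 * ((v + u') * (v + u')) := by rw [hu]; noncomm_ring
      _ = -4 := by rw [hw]; norm_num
  rw [h2]
  calc 2 * (u * (v + u')) * (2 * (u * (v + u'))) = 4 * ((u * (v + u')) * (u * (v + u'))) := by
        noncomm_ring
    _ = -16 := by rw [h3]; norm_num

theorem Y_cube [Algebra ℂ R] {u v : R} (hu : u * u = -2) (hv : v * v = -2) (huv : u * v + v * u = 2) :
    ((-(1 / 2 : ℂ)) • (u * v)) ^ 3 = 1 := by
  rw [smul_pow, pow_succ (u * v), pow_two (u * v), uv_cube hu hv huv]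
  rw [Algebra.smul_def]
  have : (-8 : R) = algebraMap ℂ R (-8) := by rw [map_neg, map_ofNat]
  rw [this, ← map_mul]
  norm_num

theorem Y_sq [Algebra ℂ R] {u u' v : R} (hv : v * v = -2) (huv' : u' * v + v * u' = 2) (hu : u * u = -2)
    (hw : (v + u') * (v + u') = -2) (huw : u * (v + u') = -((v + u') * u)) :
    (((-(1 / 2 : ℂ)) • (u * v)) * ((-(1 / 2 : ℂ)) • (u' * v))) ^ 2 = -1 := by
  rw [smul_mul_smul_comm, smul_pow, pow_two (u * v * (u' * v)), uvuv hv huv' hu hw huw]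
  rw [Algebra.smul_def]
  have : (-16 : R) = algebraMap ℂ R (-16) := by rw [map_neg, map_ofNat]
  rw [this, ← map_mul]
  norm_num

end ring

theorem exists_spinRep_aux {m : ℕ} (hm : 3 ≤ m) {G : Type*} [Group G] [Finite G]
    {π : G →* alternatingGroup (Fin (m + 2))} {z : G} (h : IsCover π z) :
    ∃ (ι : Type) (_ : Fintype ι) (_ : DecidableEq ι) (γ : Fin (m + 2) → Matrix ι ι ℂ)
      (f : G →* (Matrix ι ι ℂ)ˣ), SpinRep π z γ f := by
  classical
  obtain ⟨ι, i1, i2, g, hcard, hsq', hac', hsc⟩ := Cfsg.Agent.H107.Spin.exists_gamma ((m + 2) / 2)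
  have hlt : ∀ i : Fin (m + 2), (i : ℕ) < 2 * ((m + 2) / 2) + 1 := fun i => by have := i.2; omega
  obtain ⟨γ, hγ⟩ : ∃ γ : Fin (m + 2) → Matrix ι ι ℂ, γ = fun i : Fin (m + 2) => g (i : ℕ) := ⟨_, rfl⟩
  have hsq : ∀ i, γ i * γ i = -1 := fun i => by rw [hγ]; exact hsq' i (hlt i)
  have hac : ∀ i j, i ≠ j → γ i * γ j = -(γ j * γ i) := fun i j hij => by
    rw [hγ]; exact hac' i (hlt i) j (hlt j) fun h => hij (Fin.ext h)
  have hscal : ∀ A : Matrix ι ι ℂ, (∀ i, A * γ i = γ i * A) → ∃ c : ℂ, A = c • (1 : Matrix ι ι ℂ) := by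
    intro A hA
    refine hsc A fun i hi => ?_
    have := hA ⟨i, by omega⟩
    rw [hγ] at this
    exact this
  obtain ⟨a, ha⟩ : ∃ a, a = Fin.ofNat (m + 2) m := ⟨_, rfl⟩
  obtain ⟨b, hb⟩ : ∃ b, b = Fin.ofNat (m + 2) (m + 1) := ⟨_, rfl⟩
  have hab : a ≠ b := by rw [ha, hb]; exact ofNat_ne (by omega) (by omega) (by omega)
  have hia : ∀ i < m, Fin.ofNat (m + 2) i ≠ a := fun i hi => by
    rw [ha]; exact ofNat_ne (by omega) (by omega) (by omega)
  have hib : ∀ i < m, Fin.ofNat (m + 2) i ≠ b := fun i hi => by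
    rw [hb]; exact ofNat_ne (by omega) (by omega) (by omega)
  obtain ⟨Y, hY⟩ : ∃ Y : ℕ → Matrix ι ι ℂ, Y = fun i =>
    (-(1 / 2 : ℂ)) • ((γ (Fin.ofNat (m + 2) i) - γ a) * (γ a - γ b)) := ⟨_, rfl⟩
  have hY3 : ∀ i < m, Y i ^ 3 = 1 := fun i hi => by
    rw [hY]
    exact Y_cube (tr_sq hsq hac (hia i hi)) (tr_sq hsq hac hab) (tr_comm hsq hac (hia i hi) (hib i hi) hab)
  have hYY : ∀ i < m, ∀ j < m, i ≠ j → (Y i * Y j) ^ 2 = -1 := fun i hi j hj hij => by
    rw [hY]
    have e : γ a - γ b + (γ (Fin.ofNat (m + 2) j) - γ a) = γ (Fin.ofNat (m + 2) j) - γ b := by abel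
    have hij' : Fin.ofNat (m + 2) i ≠ Fin.ofNat (m + 2) j := ofNat_ne (by omega) (by omega) hij
    refine Y_sq (tr_sq hsq hac hab) (tr_comm hsq hac (hia j hj) (hib j hj) hab) (tr_sq hsq hac (hia i hi)) ?_ ?_
    · rw [e]
      exact tr_sq hsq hac (hib j hj)
    · rw [e]
      exact tr_anti hac hij' (hib i hi) (hia j hj).symm hab
  have hYc : ∀ i < m, ∀ l, Y i * γ l = γ (cyc m i l) * Y i := fun i hi l => by
    rw [hY, cyc_def, ← ha, ← hb]
    dsimp only
    rw [smul_mul_assoc, mul_assoc, tr_conj hsq hac hab, mul_neg, ← mul_assoc, tr_conj hsq hac (hia i hi),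
      neg_mul, neg_neg, Equiv.Perm.mul_apply, mul_assoc, mul_smul_comm]
  -- the units
  let U : ℕ → (Matrix ι ι ℂ)ˣ × alternatingGroup (Fin (m + 2)) := fun i =>
    if hi : i < m then (⟨Y i, Y i * Y i, by rw [← mul_assoc, ← pow_two, ← pow_succ, hY3 i hi],
      by rw [← pow_two, ← pow_succ, hY3 i hi]⟩, cy m i hi) else 1
  have hU : ∀ i (hi : i < m), (((U i).1 : (Matrix ι ι ℂ)ˣ) : Matrix ι ι ℂ) = Y i ∧ (U i).2 = cy m i hi := by
    intro i hi
    simp only [U, dif_pos hi]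
    exact ⟨trivial, trivial⟩
  have hmain := Cfsg.Agent.H107.Spin.exists_hom_cover hm h
    (w := ((-1, 1) : (Matrix ι ι ℂ)ˣ × alternatingGroup (Fin (m + 2)))) (by simp)
    (fun x => by ext <;> simp) U
    (fun i hi => by
      refine Prod.ext (Units.ext ?_) ?_
      · change (((U i).1 ^ 3 : (Matrix ι ι ℂ)ˣ) : Matrix ι ι ℂ) = 1
        rw [Units.val_pow_eq_pow_val, (hU i hi).1, hY3 i hi]
      · change (U i).2 ^ 3 = 1
        rw [(hU i hi).2, cy_cube])
    (fun i hi j hj hij => by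
      refine Prod.ext (Units.ext ?_) ?_
      · change ((((U i).1 * (U j).1) ^ 2 : (Matrix ι ι ℂ)ˣ) : Matrix ι ι ℂ) = ((-1 : (Matrix ι ι ℂ)ˣ) : Matrix ι ι ℂ)
        rw [Units.val_pow_eq_pow_val, Units.val_mul, (hU i hi).1, (hU j hj).1, hYY i hi j hj hij]
        rfl
      · change ((U i).2 * (U j).2) ^ 2 = 1
        rw [(hU i hi).2, (hU j hj).2, cy_sq hi hj hij])
  obtain ⟨F, hFz, hFx⟩ := hmain
  let F₁ : G →* (Matrix ι ι ℂ)ˣ := (MonoidHom.fst _ _).comp F
  let F₂ : G →* alternatingGroup (Fin (m + 2)) := (MonoidHom.snd _ _).comp F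
  have hF₂z : F₂ z = 1 := by
    change (F z).2 = 1
    rw [hFz]
  have hF₁z : F₁ z = -1 := by
    change (F z).1 = -1
    rw [hFz]
  -- equivariance on the image: the subgroup
  obtain ⟨S, hS⟩ : ∃ S : Subgroup G, ∀ x, x ∈ S ↔ ∀ l, (F₁ x : Matrix ι ι ℂ) * γ l =
      γ ((F₂ x : Equiv.Perm (Fin (m + 2))) l) * (F₁ x : Matrix ι ι ℂ) := by
    refine ⟨{ carrier := {x | ∀ l, (F₁ x : Matrix ι ι ℂ) * γ l =
                γ ((F₂ x : Equiv.Perm (Fin (m + 2))) l) * (F₁ x : Matrix ι ι ℂ)}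
              mul_mem' := ?_, one_mem' := ?_, inv_mem' := ?_ }, fun x => Iff.rfl⟩
    · intro x y hx hy l
      have hx' := hx
      have hy' := hy
      simp only [Set.mem_ofPred_eq] at hx' hy'
      rw [map_mul, map_mul, Units.val_mul, mul_assoc, hy', ← mul_assoc, hx', mul_assoc]
      rfl
    · intro l
      rw [map_one, map_one]
      simp
    · intro x hx l
      have hx' := hx
      simp only [Set.mem_ofPred_eq] at hx'
      rw [map_inv, map_inv, Subgroup.coe_inv]
      have h1 := hx' (((F₂ x : Equiv.Perm (Fin (m + 2)))⁻¹) l)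
      have h2 : (F₂ x : Equiv.Perm (Fin (m + 2))) (((F₂ x : Equiv.Perm (Fin (m + 2)))⁻¹) l) = l :=
        Equiv.apply_symm_apply _ _
      rw [h2] at h1
      calc ((F₁ x)⁻¹ : (Matrix ι ι ℂ)ˣ) * γ l
          = ((F₁ x)⁻¹ : (Matrix ι ι ℂ)ˣ) * (γ l * (F₁ x : Matrix ι ι ℂ)) * ((F₁ x)⁻¹ : (Matrix ι ι ℂ)ˣ) := by
            rw [mul_assoc, mul_assoc, Units.mul_inv, mul_one]
        _ = _ := by rw [← h1, ← mul_assoc, Units.inv_mul, one_mul]
  -- F₂ is onto
  have hsurj : Function.Surjective F₂ := by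
    have hle : gen m (cyc m) ≤ (F₂.range).map (alternatingGroup (Fin (m + 2))).subtype := by
      rw [gen_def, Subgroup.closure_le]
      rintro _ ⟨i, hi, rfl⟩
      obtain ⟨x, hx⟩ := hFx i hi
      refine ⟨cy m i hi, ⟨x, ?_⟩, rfl⟩
      change (F x).2 = _
      rw [hx, (hU i hi).2]
    intro y
    have hy : (y : Equiv.Perm (Fin (m + 2))) ∈ gen m (cyc m) := by
      rw [gen_cyc m (by omega)]
      exact y.2
    obtain ⟨y', hy', hyy⟩ := hle hy
    obtain ⟨x, hx⟩ := hy'
    refine ⟨x, ?_⟩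
    rw [hx]
    exact Subtype.ext hyy
  have hker : ∀ x, F₂ x = 1 ↔ x = 1 ∨ x = z := by
    have hc1 : Nat.card G = 2 * Nat.card (alternatingGroup (Fin (m + 2))) := by
      have e1 := Subgroup.card_mul_index π.ker
      rw [Subgroup.index_ker, MonoidHom.range_eq_top.2 h.surj, Subgroup.card_top] at e1
      have e2 : Nat.card π.ker = 2 := by
        rw [Nat.card_eq_two_iff]
        refine ⟨1, ⟨z, h.map_z⟩, fun hh => h.z_ne (congrArg Subtype.val hh).symm, ?_⟩
        rw [Set.eq_univ_iff_forall]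
        rintro ⟨x, hx⟩
        rcases (h.ker x).1 hx with rfl | rfl
        · exact Or.inl rfl
        · exact Or.inr rfl
      rw [← e1, e2]
    have e1 := Subgroup.card_mul_index F₂.ker
    rw [Subgroup.index_ker, MonoidHom.range_eq_top.2 hsurj, Subgroup.card_top, hc1] at e1
    have e2 : Nat.card F₂.ker = 2 := Nat.eq_of_mul_eq_mul_right Nat.card_pos e1
    have hzk : (⟨z, hF₂z⟩ : F₂.ker) ≠ 1 := fun hh => h.z_ne (congrArg Subtype.val hh)
    intro x
    constructor
    · intro hx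
      obtain ⟨y, -, hy2⟩ := (Nat.card_eq_two_iff' (1 : F₂.ker)).1 e2
      by_cases hx1 : x = 1
      · exact Or.inl hx1
      · right
        have e3 := hy2 ⟨x, hx⟩ (fun hh => hx1 (congrArg Subtype.val hh))
        have e4 := hy2 ⟨z, hF₂z⟩ hzk
        exact congrArg Subtype.val (e3.trans e4.symm)
    · rintro (rfl | rfl)
      · exact map_one _
      · exact hF₂z
  have hcov : IsCover F₂ z := by
    refine ⟨h.z_ne, h.z_mul, h.z_comm, hsurj, hker, ?_⟩
    intro s hs
    have hinj : Function.Injective (π.comp s) := by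
      rw [injective_iff_map_eq_one]
      intro g hg
      rcases (h.ker (s g)).1 hg with h1 | h1
      · rw [← hs g, h1, map_one]
      · rw [← hs g, h1, hF₂z]
    have hbij : Function.Bijective (π.comp s) := Finite.injective_iff_bijective.1 hinj
    let α : alternatingGroup (Fin (m + 2)) ≃* alternatingGroup (Fin (m + 2)) := MulEquiv.ofBijective _ hbij
    refine h.nonsplit (s.comp α.symm.toMonoidHom) fun g => ?_
    have : α (α.symm g) = g := α.apply_symm_apply g
    exact this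
  have hall : ∀ x, x ∈ S := by
    have hz : z ∈ S := by
      rw [hS]
      intro l
      rw [hF₂z, hF₁z]
      simp
    -- the image of S in A_N is everything
    have hle : gen m (cyc m) ≤ (S.map F₂).map (alternatingGroup (Fin (m + 2))).subtype := by
      rw [gen_def, Subgroup.closure_le]
      rintro _ ⟨i, hi, rfl⟩
      obtain ⟨x, hx⟩ := hFx i hi
      have hx1 : F₁ x = (U i).1 := congrArg Prod.fst hx
      have hx2 : F₂ x = (U i).2 := congrArg Prod.snd hx
      refine ⟨cy m i hi, ⟨x, ?_, hx2.trans (hU i hi).2⟩, rfl⟩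
      rw [SetLike.mem_coe, hS]
      intro l
      rw [hx1, hx2, (hU i hi).1, (hU i hi).2]
      exact hYc i hi l
    intro x
    have hy : ((F₂ x : alternatingGroup (Fin (m + 2))) : Equiv.Perm (Fin (m + 2))) ∈ gen m (cyc m) := by
      rw [gen_cyc m (by omega)]
      exact (F₂ x).2
    obtain ⟨y', ⟨x', hx', hxy⟩, hyy⟩ := hle hy
    have e1 : F₂ x = F₂ x' := by
      rw [hxy]
      exact Subtype.ext hyy.symm
    rcases hcov.eq_or_of_map_eq e1 with h1 | h1
    · rw [h1]; exact hx'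
    · rw [h1]; exact S.mul_mem hx' hz
  obtain ⟨e, he1, he2⟩ := exists_mulEquiv (by omega) h hcov
  refine ⟨ι, i1, i2, γ, F₁.comp e.toMonoidHom, ⟨hcard, hsq, hac, ?_, ?_, hscal⟩⟩
  · intro x i
    have h1 := (hS (e x)).1 (hall _) i
    rw [he1] at h1
    exact h1
  · change ((F₁ (e z) : (Matrix ι ι ℂ)ˣ) : Matrix ι ι ℂ) = -1
    rw [he2, hF₁z]
    rfl

/-- **F2**: the basic spin representation of the double cover of `A_N` with its gamma matrices. -/
theorem exists_spinRep {N : ℕ} (hN : 5 ≤ N) {G : Type*} [Group G] [Finite G]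
    {π : G →* alternatingGroup (Fin N)} {z : G} (h : IsCover π z) :
    ∃ (ι : Type) (_ : Fintype ι) (_ : DecidableEq ι) (γ : Fin N → Matrix ι ι ℂ)
      (f : G →* (Matrix ι ι ℂ)ˣ), SpinRep π z γ f := by
  obtain ⟨m, rfl⟩ : ∃ m, N = m + 2 := ⟨N - 2, by omega⟩
  exact exists_spinRep_aux (by omega) h

end Cfsg.Agent.H686.Spin
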